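import Groth.Agent.CycCovLib.Regular
import Mathlib.RingTheory.IntegralClosure.IsIntegralClosure.Basic
import Mathlib.RingTheory.Localization.Away.Basic
import Mathlib.Algebra.Module.Torsion.Free

/-! The normalisation of a cyclic cover branched along a regular divisor. -/

universe u

namespace Groth.Agent.CycCovLib

open Polynomial

section Group

variable {G : Type*} [CommGroup G] (T F : G)

theorem mono_mul (a b c d : ℤ) : T ^ a * F ^ b * (T ^ c * F ^ d) = T ^ (a + c) * F ^ (b + d) := by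
  rw [zpow_add, zpow_add]; exact mul_mul_mul_comm _ _ _ _

theorem mono_zpow (a b c : ℤ) : (T ^ a * F ^ b) ^ c = T ^ (a * c) * F ^ (b * c) := by
  rw [mul_zpow, ← zpow_mul, ← zpow_mul]

end Group

variable {B : Type u} [CommRing B]

/-- The etale part `B[w]/(w^g - u)`. -/
abbrev CC (g : ℕ) (u : Bˣ) : Type u := AdjoinRoot (X ^ g - C (u : B) : B[X])

/-- The ramified part `C[s]/(s^m - w^i f)`. -/
abbrev DD (g : ℕ) (u : Bˣ) (m i : ℕ) (f : B) : Type u :=
  AdjoinRoot (X ^ m - C (AdjoinRoot.root (X ^ g - C (u : B) : B[X]) ^ i * algebraMap B (CC g u) f) :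
    (CC g u)[X])

variable {g : ℕ} {u : Bˣ} {m i : ℕ} {f : B}

theorem root_pow (g : ℕ) (u : Bˣ) :
    (AdjoinRoot.root (X ^ g - C (u : B) : B[X])) ^ g = algebraMap B (CC g u) u := by
  have h := AdjoinRoot.eval₂_root (X ^ g - C (u : B) : B[X])
  simpa [sub_eq_zero, AdjoinRoot.algebraMap_eq] using h

theorem isUnit_root (hg : 0 < g) : IsUnit (AdjoinRoot.root (X ^ g - C (u : B) : B[X])) :=
  (isUnit_pow_iff hg.ne').1 (root_pow g u ▸ u.isUnit.map _)

theorem rootD_pow (g : ℕ) (u : Bˣ) (m i : ℕ) (f : B) :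
    (AdjoinRoot.root _ : DD g u m i f) ^ m =
      algebraMap (CC g u) (DD g u m i f) (AdjoinRoot.root _ ^ i * algebraMap B (CC g u) f) := by
  have h := AdjoinRoot.eval₂_root (X ^ m - C (AdjoinRoot.root (X ^ g - C (u : B) : B[X]) ^ i *
    algebraMap B (CC g u) f) : (CC g u)[X])
  rw [eval₂_sub, eval₂_X_pow, eval₂_C, sub_eq_zero] at h
  exact h

theorem isRegularRing_CC [IsRegularRing B] (hg : 0 < g) (hgB : IsUnit (g : B)) :
    IsRegularRing (CC g u) := by
  haveI : IsNoetherianRing (CC g u) :=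
    isNoetherianRing_of_surjective _ _ (AdjoinRoot.mk _) AdjoinRoot.mk_surjective
  rw [isRegularRing_iff]
  intro Q _
  refine isRegular_of_derivative (AdjoinRoot.mk _) AdjoinRoot.mk_surjective _ Ideal.mk_ker Q ?_
  intro h
  refine Ideal.IsPrime.ne_top ‹_› (Ideal.eq_top_of_isUnit_mem _ h ?_)
  simp only [derivative_sub, derivative_C, sub_zero, derivative_X_pow, map_mul, map_pow,
    AdjoinRoot.mk_C, AdjoinRoot.mk_X]
  exact (hgB.map _).mul ((isUnit_root hg).pow _)

theorem monic_CC (hg : 0 < g) : (X ^ g - C (u : B) : B[X]).Monic := monic_X_pow_sub_C _ hg.ne'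

theorem isRegularRing_CC_quot [IsRegularRing B] [IsRegularRing (B ⧸ Ideal.span {f})] (hg : 0 < g)
    (hgB : IsUnit (g : B)) : IsRegularRing (CC g u ⧸ Ideal.span {algebraMap B (CC g u) f}) := by
  let I : Ideal (CC g u) := Ideal.span {algebraMap B (CC g u) f}
  let π : B ⧸ Ideal.span {f} →+* CC g u ⧸ I :=
    Ideal.quotientMap I (algebraMap B (CC g u))
      ((Ideal.span_singleton_le_iff_mem _).2 (Ideal.mem_span_singleton_self _))
  let φ : (B ⧸ Ideal.span {f})[X] →+* CC g u ⧸ I :=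
    eval₂RingHom π (Ideal.Quotient.mk I (AdjoinRoot.root _))
  have hφmap : ∀ P : B[X], φ (P.map (Ideal.Quotient.mk _)) = Ideal.Quotient.mk I (AdjoinRoot.mk _ P) := by
    intro P
    simp only [φ, coe_eval₂RingHom, eval₂_map]
    rw [show π.comp (Ideal.Quotient.mk (Ideal.span {f})) =
      (Ideal.Quotient.mk I).comp (algebraMap B (CC g u)) from RingHom.ext fun b => rfl, ← hom_eval₂]
    congr 1
    exact (AdjoinRoot.aeval_eq P)
  have hsurj : Function.Surjective φ := fun y => by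
    obtain ⟨x, rfl⟩ := Ideal.Quotient.mk_surjective y
    obtain ⟨P, rfl⟩ := AdjoinRoot.mk_surjective x
    exact ⟨_, hφmap P⟩
  have hker : RingHom.ker φ =
      Ideal.span {(X ^ g - C (u : B) : B[X]).map (Ideal.Quotient.mk (Ideal.span {f}))} := by
    refine le_antisymm (fun Pb hPb => ?_) ((Ideal.span_singleton_le_iff_mem _).2 ?_)
    · obtain ⟨P, rfl⟩ := map_surjective _ Ideal.Quotient.mk_surjective Pb
      rw [RingHom.mem_ker, hφmap, Ideal.Quotient.eq_zero_iff_mem, Ideal.mem_span_singleton] at hPb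
      obtain ⟨y, hy⟩ := hPb
      obtain ⟨Y, rfl⟩ := AdjoinRoot.mk_surjective y
      rw [AdjoinRoot.algebraMap_eq, ← AdjoinRoot.mk_C, ← map_mul, AdjoinRoot.mk_eq_mk] at hy
      obtain ⟨Z, hZ⟩ := hy
      refine Ideal.mem_span_singleton.2 ⟨Z.map (Ideal.Quotient.mk (Ideal.span {f})), ?_⟩
      rw [← Polynomial.map_mul, ← hZ, Polynomial.map_sub, Polynomial.map_mul, map_C,
        show Ideal.Quotient.mk (Ideal.span {f}) f = 0 from
          Ideal.Quotient.eq_zero_iff_mem.2 (Ideal.mem_span_singleton_self f)]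
      simp
    · rw [RingHom.mem_ker, hφmap, AdjoinRoot.mk_self, map_zero]
  haveI : IsNoetherianRing (CC g u ⧸ I) := isNoetherianRing_of_surjective _ _ φ hsurj
  rw [isRegularRing_iff]
  intro Q _
  refine isRegular_of_derivative φ hsurj _ hker Q ?_
  rw [derivative_map, hφmap]
  intro h
  refine Ideal.IsPrime.ne_top ‹_› (Ideal.eq_top_of_isUnit_mem _ h (IsUnit.map _ ?_))
  simp only [derivative_sub, derivative_C, sub_zero, derivative_X_pow, map_mul, map_pow,
    AdjoinRoot.mk_C, AdjoinRoot.mk_X]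
  exact (hgB.map _).mul ((isUnit_root hg).pow _)

theorem smul_regular [IsDomain B] (hg : 0 < g) (hm : 0 < m) (hf : f ≠ 0) :
    ∀ y : DD g u m i f, algebraMap B (DD g u m i f) f * y = 0 → y = 0 := by
  intro y hy
  haveI : Module.Free B (CC g u) := (monic_CC hg).free_adjoinRoot
  haveI : Module.Free (CC g u) (DD g u m i f) := (monic_X_pow_sub_C _ hm.ne').free_adjoinRoot
  haveI : Module.Free B (DD g u m i f) := Module.Free.trans (S := CC g u)
  rw [← Algebra.smul_def] at hy
  exact (smul_eq_zero.1 hy).resolve_left hf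

theorem exists_quot_DD (hg : 0 < g) (hm : 0 < m) :
    ∃ φ : DD g u m i f →+* CC g u ⧸ Ideal.span {algebraMap B (CC g u) f},
      Function.Surjective φ ∧ RingHom.ker φ = Ideal.span {(AdjoinRoot.root _ : DD g u m i f)} := by
  let π := Ideal.Quotient.mk (Ideal.span {algebraMap B (CC g u) f})
  have hπf : π (algebraMap B (CC g u) f) = 0 :=
    Ideal.Quotient.eq_zero_iff_mem.2 (Ideal.mem_span_singleton_self _)
  let φ : DD g u m i f →+* CC g u ⧸ Ideal.span {algebraMap B (CC g u) f} :=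
    AdjoinRoot.lift π 0 (by
      rw [eval₂_sub, eval₂_X_pow, eval₂_C, map_mul π, hπf, mul_zero, sub_zero]; exact zero_pow hm.ne')
  refine ⟨φ, fun y => ?_, le_antisymm (fun x hx => ?_) ((Ideal.span_singleton_le_iff_mem _).2 ?_)⟩
  · obtain ⟨c, rfl⟩ := Ideal.Quotient.mk_surjective y
    exact ⟨algebraMap _ _ c, AdjoinRoot.lift_of _⟩
  · obtain ⟨P, rfl⟩ := AdjoinRoot.mk_surjective x
    rw [RingHom.mem_ker, AdjoinRoot.lift_mk, eval₂_at_zero, Ideal.Quotient.eq_zero_iff_mem,
      Ideal.mem_span_singleton] at hx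
    obtain ⟨b, hb⟩ := hx
    obtain ⟨Z, hZ⟩ := X_dvd_iff.2 (show (P - C (P.coeff 0)).coeff 0 = 0 by simp)
    rw [sub_eq_iff_eq_add] at hZ
    rw [Ideal.mem_span_singleton, hZ, map_add, map_mul (AdjoinRoot.mk _) X Z, AdjoinRoot.mk_X, AdjoinRoot.mk_C, hb]
    refine dvd_add (dvd_mul_right _ _) ?_
    have hc : IsUnit (AdjoinRoot.root (X ^ g - C (u : B) : B[X]) ^ i) := (isUnit_root hg).pow _
    obtain ⟨c, hc'⟩ := hc.exists_left_inv
    refine (dvd_pow_self _ hm.ne').trans ⟨algebraMap (CC g u) _ (b * c), ?_⟩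
    rw [rootD_pow, ← map_mul (algebraMap (CC g u) (DD g u m i f)), ← AdjoinRoot.algebraMap_eq]
    congr 1
    linear_combination -(algebraMap B (CC g u) f * b) * hc'
  · exact AdjoinRoot.lift_root _

theorem root_smul_regular [IsDomain B] (hg : 0 < g) (hm : 0 < m) (hf : f ≠ 0) :
    IsSMulRegular (DD g u m i f) (AdjoinRoot.root _ : DD g u m i f) := by
  refine isSMulRegular_iff_right_eq_zero_of_smul.mpr fun y hy => ?_
  rw [smul_eq_mul] at hy
  refine smul_regular hg hm hf y ?_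
  have h : (AdjoinRoot.root _ : DD g u m i f) ^ m * y = 0 := by
    rw [← pow_sub_one_mul hm.ne' (AdjoinRoot.root _ : DD g u m i f), mul_assoc, hy, mul_zero]
  rw [rootD_pow, map_mul (algebraMap (CC g u) (DD g u m i f)), ← IsScalarTower.algebraMap_apply B (CC g u), mul_assoc] at h
  exact ((isUnit_root hg).pow i |>.map _).mul_right_eq_zero.1 h

theorem isRegularRing_DD [IsDomain B] [IsRegularRing B] [IsRegularRing (B ⧸ Ideal.span {f})]
    (hg : 0 < g) (hgB : IsUnit (g : B)) (hm : 0 < m) (hmB : IsUnit (m : B)) (hf : f ≠ 0) :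
    IsRegularRing (DD g u m i f) := by
  haveI := isRegularRing_CC (u := u) hg hgB
  haveI := isRegularRing_CC_quot (u := u) (f := f) hg hgB
  haveI : IsNoetherianRing (DD g u m i f) :=
    isNoetherianRing_of_surjective _ _ (AdjoinRoot.mk _) AdjoinRoot.mk_surjective
  rw [isRegularRing_iff]
  intro Q _
  by_cases hs : (AdjoinRoot.root _ : DD g u m i f) ∈ Q
  · obtain ⟨φ, hφ, hker⟩ := exists_quot_DD (u := u) (i := i) (f := f) hg hm
    exact isRegular_lift φ hφ _ hker (root_smul_regular hg hm hf) Q hs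
  · refine isRegular_of_derivative (AdjoinRoot.mk _) AdjoinRoot.mk_surjective _ Ideal.mk_ker Q ?_
    rw [derivative_sub, derivative_C, sub_zero, derivative_X_pow, map_mul (AdjoinRoot.mk _), map_pow,
      AdjoinRoot.mk_C, AdjoinRoot.mk_X]
    intro h
    have hmD : IsUnit (AdjoinRoot.of (X ^ m - C (AdjoinRoot.root (X ^ g - C (u : B) : B[X]) ^ i *
        algebraMap B (CC g u) f) : (CC g u)[X]) (m : CC g u)) := by
      refine IsUnit.map _ ?_
      simpa using hmB.map (algebraMap B (CC g u))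
    exact hs (Ideal.IsPrime.mem_of_pow_mem ‹_› _ ((Ideal.unit_mul_mem_iff_mem _ hmD).1 h))

/-- The root of the etale part, in the cover. -/
noncomputable abbrev W (g : ℕ) (u : Bˣ) (m i : ℕ) (f : B) : DD g u m i f :=
  algebraMap (CC g u) _ (AdjoinRoot.root _)

/-- The root of the ramified part. -/
noncomputable abbrev S (g : ℕ) (u : Bˣ) (m i : ℕ) (f : B) : DD g u m i f := AdjoinRoot.root _

theorem S_pow (g : ℕ) (u : Bˣ) (m i : ℕ) (f : B) :
    S g u m i f ^ m = W g u m i f ^ i * algebraMap B (DD g u m i f) f := by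
  rw [IsScalarTower.algebraMap_apply B (CC g u) (DD g u m i f), ← map_pow (algebraMap (CC g u) (DD g u m i f)),
    ← map_mul (algebraMap (CC g u) (DD g u m i f))]
  exact rootD_pow g u m i f

theorem W_pow (g : ℕ) (u : Bˣ) (m i : ℕ) (f : B) :
    W g u m i f ^ g = algebraMap B (DD g u m i f) u := by
  rw [IsScalarTower.algebraMap_apply B (CC g u) (DD g u m i f), ← map_pow (algebraMap (CC g u) (DD g u m i f)),
    root_pow]

theorem exists_units {g : ℕ} {u : Bˣ} {m i : ℕ} {f : B} (hg : 0 < g) (hm : 0 < m)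
    (L : Type u) [CommRing L] [Algebra B L] [Algebra (DD g u m i f) L]
    [IsScalarTower B (DD g u m i f) L] (F' : Lˣ) (hF' : (F' : L) = algebraMap B L f) :
    ∃ w' s' U' : Lˣ, (w' : L) = algebraMap (DD g u m i f) L (W g u m i f) ∧
      (s' : L) = algebraMap (DD g u m i f) L (S g u m i f) ∧ (U' : L) = algebraMap B L u ∧
      w' ^ (g : ℤ) = U' ∧ s' ^ (m : ℤ) = w' ^ (i : ℤ) * F' := by
  let a := algebraMap (DD g u m i f) L
  have hwg : a (W g u m i f) ^ g = algebraMap B L u := by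
    rw [← map_pow a, W_pow]; exact (IsScalarTower.algebraMap_apply B (DD g u m i f) L _).symm
  have hsm : a (S g u m i f) ^ m = a (W g u m i f) ^ i * algebraMap B L f := by
    rw [← map_pow a, S_pow, map_mul a, map_pow a]
    exact congrArg (a (W g u m i f) ^ i * ·) (IsScalarTower.algebraMap_apply B (DD g u m i f) L _).symm
  generalize hwz : a (W g u m i f) = wz at hwg hsm
  generalize hsz : a (S g u m i f) = sz at hsm
  obtain ⟨U', hU'⟩ := u.isUnit.map (algebraMap B L)
  obtain ⟨w', rfl⟩ : IsUnit wz := (isUnit_pow_iff hg.ne').1 (hwg ▸ u.isUnit.map _)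
  obtain ⟨s', rfl⟩ : IsUnit sz :=
    (isUnit_pow_iff hm.ne').1 (hsm ▸ (w'.isUnit.pow i).mul (hF' ▸ F'.isUnit))
  refine ⟨w', s', U', rfl, rfl, hU', ?_, ?_⟩
  · rw [zpow_natCast]; exact Units.ext (by rw [Units.val_pow_eq_pow_val, hwg, hU'])
  · rw [zpow_natCast, zpow_natCast]
    exact Units.ext (by rw [Units.val_mul, Units.val_pow_eq_pow_val, Units.val_pow_eq_pow_val, hsm, hF'])

theorem exists_loc [IsDomain B] {g : ℕ} {u : Bˣ} {m i : ℕ} {f : B} (hg : 0 < g) (hm : 0 < m)
    (hf : f ≠ 0) : ∃ (L : Type u) (_ : CommRing L) (_ : Algebra B L)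
      (_ : Algebra (DD g u m i f) L) (_ : IsScalarTower B (DD g u m i f) L),
      ∃ F' : Lˣ, (F' : L) = algebraMap B L f ∧
        Function.Injective (algebraMap (DD g u m i f) L) := by
  let L := Localization.Away (algebraMap B (DD g u m i f) f)
  refine ⟨L, inferInstance, inferInstance, inferInstance, inferInstance,
    ((IsLocalization.Away.algebraMap_isUnit (S := L) (algebraMap B (DD g u m i f) f))).unit, ?_, ?_⟩
  · rw [IsUnit.unit_spec, ← IsScalarTower.algebraMap_apply B (DD g u m i f) L]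
  · exact IsLocalization.injective L (M := Submonoid.powers (algebraMap B (DD g u m i f) f))
      (Submonoid.powers_le.2 (mem_nonZeroDivisors_iff_right.2
        fun y hy => smul_regular hg hm hf y (by rwa [mul_comm])))

theorem induction_DD {g : ℕ} {u : Bˣ} {m i : ℕ} {f : B} {p : DD g u m i f → Prop}
    (hadd : ∀ x y, p x → p y → p (x + y)) (hmul : ∀ x y, p x → p y → p (x * y))
    (hB : ∀ b, p (algebraMap B _ b)) (hW : p (W g u m i f)) (hS : p (S g u m i f))
    (x : DD g u m i f) : p x := by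
  have h1 : p 1 := by rw [← map_one (algebraMap B (DD g u m i f))]; exact hB 1
  have hpow : ∀ (y : DD g u m i f) (n : ℕ), p y → p (y ^ n) := fun y n hy => by
    induction n with
    | zero => rw [pow_zero]; exact h1
    | succ n ih => rw [pow_succ]; exact hmul _ _ ih hy
  have hC : ∀ c : CC g u, p (algebraMap (CC g u) _ c) := by
    intro c
    obtain ⟨Q, rfl⟩ := AdjoinRoot.mk_surjective c
    induction Q using Polynomial.induction_on' with
    | add a b ha hb => rw [map_add (AdjoinRoot.mk _), map_add (algebraMap (CC g u) _)]; exact hadd _ _ ha hb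
    | monomial n c =>
      rw [← C_mul_X_pow_eq_monomial, map_mul (AdjoinRoot.mk _), map_pow, AdjoinRoot.mk_C,
        AdjoinRoot.mk_X, map_mul (algebraMap (CC g u) (DD g u m i f)),
        map_pow (algebraMap (CC g u) (DD g u m i f))]
      refine hmul _ _ ?_ (hpow _ _ hW)
      rw [← AdjoinRoot.algebraMap_eq, ← IsScalarTower.algebraMap_apply B (CC g u)]
      exact hB c
  obtain ⟨Q, rfl⟩ := AdjoinRoot.mk_surjective x
  induction Q using Polynomial.induction_on' with
  | add a b ha hb => rw [map_add (AdjoinRoot.mk _)]; exact hadd _ _ ha hb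
  | monomial n c =>
    rw [← C_mul_X_pow_eq_monomial, map_mul (AdjoinRoot.mk _), map_pow, AdjoinRoot.mk_C,
      AdjoinRoot.mk_X]
    exact hmul _ _ (hC c) (hpow _ _ hS)

theorem ringHom_ext_DD {g : ℕ} {u : Bˣ} {m i : ℕ} {f : B} {L : Type u} [CommRing L]
    {φ ψ : DD g u m i f →+* L} (hB : ∀ b, φ (algebraMap B _ b) = ψ (algebraMap B _ b))
    (hW : φ (W g u m i f) = ψ (W g u m i f)) (hS : φ (S g u m i f) = ψ (S g u m i f)) (x) :
    φ x = ψ x :=
  induction_DD (p := fun x => φ x = ψ x)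
    (fun x y hx hy => by rw [map_add φ, map_add ψ, hx, hy])
    (fun x y hx hy => by rw [map_mul φ, map_mul ψ, hx, hy]) hB hW hS x

section Structure

variable {K : Type u} [CommRing K] [Algebra B K]

set_option maxHeartbeats 1000000 in
theorem main_equiv [IsDomain B] [IsRegularRing B] [IsRegularRing (B ⧸ Ideal.span {f})]
    (N α : ℕ) (hN : 0 < N) (hNB : IsUnit (N : B)) (hf : f ≠ 0)
    [Algebra (AdjoinRoot (X ^ N - C ((u : B) * f ^ α) : B[X])) K]
    [IsScalarTower B (AdjoinRoot (X ^ N - C ((u : B) * f ^ α) : B[X])) K]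
    [IsLocalization.Away (algebraMap B (AdjoinRoot (X ^ N - C ((u : B) * f ^ α) : B[X])) f) K]
    (A : Subalgebra B K)
    (hA : A = Algebra.adjoin B (Set.range fun j : Fin N =>
      algebraMap (AdjoinRoot (X ^ N - C ((u : B) * f ^ α) : B[X])) K
          (AdjoinRoot.root (X ^ N - C ((u : B) * f ^ α) : B[X]) ^ (j : ℕ)) *
        IsLocalization.Away.invSelf (S := K)
          (algebraMap B (AdjoinRoot (X ^ N - C ((u : B) * f ^ α) : B[X])) f) ^ ((j : ℕ) * α / N))) :
    Module.Finite B A ∧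
      (∀ x : K, IsIntegral (AdjoinRoot (X ^ N - C ((u : B) * f ^ α) : B[X])) x ↔ x ∈ A) ∧
      IsRegularRing A ∧
      ∃ (g' m' i' : ℕ), g' = Nat.gcd N α ∧ N = g' * m' ∧ Nonempty (DD g' u m' i' f ≃ₐ[B] A) := by
  classical
  -- numerology
  obtain ⟨m, hmN⟩ := Nat.gcd_dvd_left N α
  obtain ⟨β, hβα⟩ := Nat.gcd_dvd_right N α
  generalize hgdef : Nat.gcd N α = g at hmN hβα ⊢
  have hg : 0 < g := hgdef ▸ Nat.gcd_pos_of_pos_left _ hN
  have hm : 0 < m := Nat.pos_of_ne_zero fun h => by simp [h] at hmN; omega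
  have hcop : Nat.Coprime m β := by
    have h := hgdef
    rw [hmN, hβα, Nat.gcd_mul_left] at h
    exact Nat.eq_of_mul_eq_mul_left hg (by rw [h, mul_one])
  obtain ⟨i₀, j₀, hbez⟩ : ∃ (i₀ : ℕ) (j₀ : ℤ), (i₀ : ℤ) * β - m * j₀ = 1 := by
    obtain ⟨a, b, hab⟩ := (Nat.isCoprime_iff_coprime.2 hcop : IsCoprime (m : ℤ) (β : ℤ))
    have hm' : (m : ℤ) ≠ 0 := by exact_mod_cast hm.ne'
    refine ⟨(b % m).toNat, -a - (b / m) * β, ?_⟩
    rw [Int.toNat_of_nonneg (Int.emod_nonneg _ hm')]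
    linear_combination hab + (β : ℤ) * Int.emod_add_mul_ediv b m
  have hgB : IsUnit (g : B) := isUnit_of_dvd_unit ⟨(m : B), by rw [hmN, Nat.cast_mul]⟩ hNB
  have hmB : IsUnit (m : B) :=
    isUnit_of_dvd_unit ⟨(g : B), by rw [hmN, Nat.cast_mul, mul_comm]⟩ hNB
  -- units in `K`
  have hFu : IsUnit (algebraMap B K f) := by
    rw [IsScalarTower.algebraMap_apply B (AdjoinRoot (X ^ N - C ((u : B) * f ^ α) : B[X])) K]
    exact IsLocalization.Away.algebraMap_isUnit _
  obtain ⟨F, hF⟩ := hFu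
  obtain ⟨U, hU⟩ := u.isUnit.map (algebraMap B K)
  let t : K := algebraMap (AdjoinRoot (X ^ N - C ((u : B) * f ^ α) : B[X])) K (AdjoinRoot.root (X ^ N - C ((u : B) * f ^ α) : B[X]))
  have htN : t ^ N = (U : K) * (F : K) ^ α := by
    have h := AdjoinRoot.eval₂_root (X ^ N - C ((u : B) * f ^ α) : B[X])
    rw [eval₂_sub, eval₂_X_pow, eval₂_C, sub_eq_zero] at h
    simp only [t, ← map_pow]
    rw [h, ← AdjoinRoot.algebraMap_eq, ← IsScalarTower.algebraMap_apply, map_mul, map_pow, hU, hF]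
  obtain ⟨T, hT⟩ : IsUnit t := (isUnit_pow_iff hN.ne').1 (htN ▸ U.isUnit.mul (F.isUnit.pow α))
  have hTN : T ^ (N : ℤ) = U * F ^ (α : ℤ) := by
    rw [zpow_natCast, zpow_natCast]; ext; simp [hT, htN]
  have hinv : IsLocalization.Away.invSelf (S := K) (algebraMap B (AdjoinRoot (X ^ N - C ((u : B) * f ^ α) : B[X])) f) =
      ((F⁻¹ : Kˣ) : K) := by
    apply F.isUnit.mul_left_cancel
    rw [Units.mul_inv, hF, IsScalarTower.algebraMap_apply B (AdjoinRoot (X ^ N - C ((u : B) * f ^ α) : B[X])) K,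
      IsLocalization.Away.mul_invSelf]
  have hZ : (N : ℤ) = g * m := by exact_mod_cast hmN
  have hZ' : (α : ℤ) = g * β := by exact_mod_cast hβα
  have hUA : ∀ l : ℤ, ((U ^ l : Kˣ) : K) ∈ A := fun l => by
    have : U = Units.map (algebraMap B K : B →* K) u := Units.ext hU
    rw [this, ← map_zpow]
    exact A.algebraMap_mem _
  have hFA : ∀ n : ℕ, ((F ^ (n : ℤ) : Kˣ) : K) ∈ A := fun n => by
    rw [zpow_natCast, Units.val_pow_eq_pow_val, hF]
    exact pow_mem (A.algebraMap_mem _) _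
  have hgen : ∀ r d : ℕ, algebraMap (AdjoinRoot (X ^ N - C ((u : B) * f ^ α) : B[X])) K
      (AdjoinRoot.root (X ^ N - C ((u : B) * f ^ α) : B[X]) ^ r) *
      IsLocalization.Away.invSelf (S := K)
        (algebraMap B (AdjoinRoot (X ^ N - C ((u : B) * f ^ α) : B[X])) f) ^ d =
      ((T ^ (r : ℤ) * F ^ (-(d : ℤ)) : Kˣ) : K) := fun r d => by
    rw [hinv, map_pow, show algebraMap _ K (AdjoinRoot.root _) = (T : K) from hT.symm,
      zpow_natCast, zpow_neg, zpow_natCast, ← inv_pow, Units.val_mul, Units.val_pow_eq_pow_val,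
      Units.val_pow_eq_pow_val]
  have hmem : ∀ a e : ℤ, e * N ≤ a * α → ((T ^ a * F ^ (-e) : Kˣ) : K) ∈ A := by
    intro a e hle
    have hN' : (0 : ℤ) < N := by exact_mod_cast hN
    have hdiv := Int.emod_add_mul_ediv a N
    set l := a / N
    obtain ⟨r, hr⟩ : ∃ r : ℕ, (r : ℤ) = a % N :=
      ⟨(a % N).toNat, Int.toNat_of_nonneg (Int.emod_nonneg _ hN'.ne')⟩
    have hrN : r < N := by
      have := Int.emod_lt_of_pos a hN'; omega
    rw [← hr] at hdiv
    obtain ⟨n, hn⟩ : ∃ n : ℕ, (n : ℤ) = ((r * α / N : ℕ) : ℤ) + α * l - e := by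
      refine ⟨_, Int.toNat_of_nonneg ?_⟩
      have h1 : ((r * α : ℕ) : ℤ) < (N : ℤ) * ((r * α / N : ℕ) : ℤ) + N := by
        exact_mod_cast (by
          have := Nat.lt_div_mul_add (a := r * α) hN
          linarith [mul_comm (r * α / N) N] : r * α < N * (r * α / N) + N)
      push_cast at h1 ⊢
      by_contra hneg
      have : ((r : ℤ) * α / N + α * l - e) ≤ -1 := by omega
      nlinarith
    have he : T ^ (r : ℤ) * F ^ (-((r * α / N : ℕ) : ℤ)) * (U ^ l * F ^ (n : ℤ)) = T ^ a * F ^ (-e) := by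
      have h2 : U = T ^ (N : ℤ) * F ^ (-(α : ℤ)) := by rw [hTN]; simp [zpow_neg]
      rw [h2, mono_zpow, mul_assoc (T ^ ((N : ℤ) * l)), ← zpow_add, mono_mul, hn]
      congr 2 <;> linarith
    rw [← he, Units.val_mul, Units.val_mul _ (F ^ (n : ℤ))]
    refine mul_mem ?_ (mul_mem (hUA l) (hFA n))
    rw [hA]
    exact Algebra.subset_adjoin ⟨⟨r, hrN⟩, hgen r _⟩
  -- the map from the explicit model
  let w : Kˣ := T ^ (m : ℤ) * F ^ (-(β : ℤ))
  let s : Kˣ := T ^ (i₀ : ℤ) * F ^ (-j₀)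
  have hwA : (w : K) ∈ A := hmem _ _ (by rw [hZ, hZ']; exact le_of_eq (by ring))
  have hsA : (s : K) ∈ A := hmem _ _ (by
    rw [hZ, hZ', ← sub_nonneg, show (i₀ : ℤ) * (g * β) - j₀ * (g * m) = g * ((i₀ : ℤ) * β - m * j₀) by ring, hbez]
    simp)
  have hwg : w ^ (g : ℤ) = U := by
    rw [mono_zpow, show (m : ℤ) * g = N by rw [hZ, mul_comm], show -(β : ℤ) * g = -α by rw [hZ']; ring,
      hTN]
    simp [zpow_neg]
  have hsm : s ^ (m : ℤ) = w ^ (i₀ : ℤ) * F := by
    conv_rhs => rw [mono_zpow, mul_assoc, ← zpow_add_one]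
    rw [mono_zpow, mul_comm (i₀ : ℤ) m]
    congr 2
    linarith
  let Φ₁ : CC g u →ₐ[B] K := AdjoinRoot.liftAlgHom _ (Algebra.ofId B K) (w : K) (by
    rw [eval₂_sub, eval₂_X_pow, eval₂_C, sub_eq_zero]
    rw [← Units.val_pow_eq_pow_val, ← zpow_natCast, hwg, hU]; rfl)
  have hΦ₁ : Φ₁ (AdjoinRoot.root _) = (w : K) := AdjoinRoot.liftAlgHom_root _ _ _ _
  let Φ : DD g u m i₀ f →ₐ[B] K := AdjoinRoot.liftAlgHom _ Φ₁ (s : K) (by
    rw [eval₂_sub, eval₂_X_pow, eval₂_C, sub_eq_zero]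
    change _ = Φ₁ _
    rw [map_mul, map_pow, hΦ₁, AlgHom.commutes, ← hF]
    have := congrArg Units.val hsm
    simpa using this)
  have hΦs : Φ (S g u m i₀ f) = (s : K) := AdjoinRoot.liftAlgHom_root _ _ _ _
  have hΦw : Φ (W g u m i₀ f) = (w : K) :=
    (AdjoinRoot.liftAlgHom_of _ _ _ _ _).trans hΦ₁
  -- range
  have hrange : Φ.range = A := by
    apply le_antisymm
    · rintro _ ⟨x, rfl⟩
      change Φ x ∈ A
      exact induction_DD (p := fun x => Φ x ∈ A)
        (fun x y hx hy => by rw [map_add Φ]; exact add_mem hx hy)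
        (fun x y hx hy => by rw [map_mul Φ]; exact mul_mem hx hy)
        (fun b => by rw [Φ.commutes]; exact A.algebraMap_mem b)
        (by rw [hΦw]; exact hwA) (by rw [hΦs]; exact hsA) x
    · rw [hA, Algebra.adjoin_le_iff]
      rintro _ ⟨j, rfl⟩
      set a := (j : ℕ) * α / N with ha
      obtain ⟨r, hr⟩ : ∃ r : ℕ, (r : ℤ) = (j : ℕ) * β - m * a := by
        refine ⟨_, Int.toNat_of_nonneg ?_⟩
        have h := Nat.div_mul_le_self ((j : ℕ) * α) N
        rw [← ha] at h
        have h' : (a : ℤ) * (g * m) ≤ (j : ℕ) * (g * β) := by rw [← hZ, ← hZ']; exact_mod_cast h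
        nlinarith
      obtain ⟨W', hW⟩ := ((isUnit_root (u := u) hg).map (algebraMap (CC g u) (DD g u m i₀ f)))
      let q : ℤ := i₀ * a - (j : ℕ) * j₀
      refine ⟨((W' ^ q : (DD g u m i₀ f)ˣ) : DD g u m i₀ f) * (S g u m i₀ f) ^ r, ?_⟩
      have hWmap : Units.map (Φ : DD g u m i₀ f →* K) W' = w := Units.ext (by
        rw [Units.coe_map]; exact (congrArg Φ hW).trans hΦw)
      have he : w ^ q * s ^ (r : ℤ) = T ^ ((j : ℕ) : ℤ) * F ^ (-(a : ℤ)) := by
        rw [mono_zpow, mono_zpow, mono_mul]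
        congr 2
        · simp only [q, hr]; linear_combination ((j : ℕ) : ℤ) * hbez
        · simp only [q, hr]; linear_combination -(a : ℤ) * hbez
      change Φ _ = _
      rw [map_mul, map_pow, hΦs]
      have h3 : Φ ((W' ^ q : (DD g u m i₀ f)ˣ) : DD g u m i₀ f) = ((w ^ q : Kˣ) : K) := by
        rw [← hWmap, ← map_zpow]; rfl
      rw [h3, ← Units.val_pow_eq_pow_val, ← Units.val_mul, ← zpow_natCast, he]
      exact (hgen _ _).symm
  -- injectivity
  obtain ⟨L, _, _, _, _, F', hF', hLinj⟩ : ∃ (L : Type u) (_ : CommRing L) (_ : Algebra B L)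
      (_ : Algebra (DD g u m i₀ f) L) (_ : IsScalarTower B (DD g u m i₀ f) L),
      ∃ F' : Lˣ, (F' : L) = algebraMap B L f ∧
        Function.Injective (algebraMap (DD g u m i₀ f) L) := exists_loc hg hm hf
  obtain ⟨w', s', U', hw', hs', hU', hwg', hsm'⟩ :=
    exists_units (u := u) (i := i₀) hg hm L F' hF'
  let T' : Lˣ := s' ^ (β : ℤ) * w' ^ (-j₀)
  have hTN' : T' ^ (N : ℤ) = U' * F' ^ (α : ℤ) := by
    rw [mono_zpow, hZ, show (β : ℤ) * (g * m) = m * (g * β) by ring, zpow_mul s', hsm', mul_zpow,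
      ← zpow_mul, mul_assoc, mul_comm (F' ^ _), ← mul_assoc, ← zpow_add,
      show (i₀ : ℤ) * (g * β) + -j₀ * (g * m) = g * 1 by linear_combination (g : ℤ) * hbez,
      mul_one, hwg', hZ']
  let Ψ₁ : AdjoinRoot (X ^ N - C ((u : B) * f ^ α) : B[X]) →ₐ[B] L := AdjoinRoot.liftAlgHom _ (Algebra.ofId B L) (T' : L) (by
    rw [eval₂_sub, eval₂_X_pow, eval₂_C, sub_eq_zero]
    have := congrArg Units.val hTN'
    rw [zpow_natCast, zpow_natCast] at this
    simpa [hU', hF', Algebra.ofId_apply] using this)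
  let Ψ : K →+* L := IsLocalization.lift (M := Submonoid.powers (algebraMap B (AdjoinRoot (X ^ N - C ((u : B) * f ^ α) : B[X])) f))
    (g := (Ψ₁ : AdjoinRoot (X ^ N - C ((u : B) * f ^ α) : B[X]) →+* L)) (by
      rintro ⟨_, n, rfl⟩
      rw [map_pow, RingHom.coe_coe, AlgHom.commutes, ← hF']
      exact F'.isUnit.pow n)
  have hΨB : ∀ b, Ψ (algebraMap B K b) = algebraMap B L b := fun b => by
    rw [IsScalarTower.algebraMap_apply B (AdjoinRoot (X ^ N - C ((u : B) * f ^ α) : B[X])) K, IsLocalization.lift_eq]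
    exact Ψ₁.commutes b
  have hΨT : Units.map (Ψ : K →* L) T = T' := Units.ext (by
    rw [Units.coe_map]
    refine ((congrArg Ψ hT).trans
      (IsLocalization.lift_eq _ _)).trans ?_
    simp only [Ψ₁, t, RingHom.coe_coe, AdjoinRoot.liftAlgHom_root])
  have hΨF : Units.map (Ψ : K →* L) F = F' := Units.ext (by
    rw [Units.coe_map]; exact (congrArg Ψ hF).trans ((hΨB f).trans hF'.symm))
  have hΨw : Units.map (Ψ : K →* L) w = w' := by
    rw [map_mul, map_zpow, map_zpow, hΨT, hΨF, mono_zpow, mul_comm (β : ℤ) m, zpow_mul, hsm',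
      mul_zpow, ← zpow_mul, mul_assoc (w' ^ _), mul_comm (F' ^ _), ← mul_assoc, ← zpow_add,
      show (i₀ : ℤ) * β + -j₀ * m = 1 by linear_combination hbez]
    simp [zpow_neg]
  have hΨs : Units.map (Ψ : K →* L) s = s' := by
    rw [map_mul, map_zpow, map_zpow, hΨT, hΨF, mono_zpow,
      show (β : ℤ) * i₀ = 1 + m * j₀ by linear_combination hbez, zpow_add, zpow_mul, hsm', mul_zpow,
      zpow_one, ← zpow_mul]
    rw [show -j₀ * (i₀ : ℤ) = -((i₀ : ℤ) * j₀) by ring, zpow_neg, zpow_neg]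
    simp [mul_assoc, mul_comm, mul_left_comm]
  have hcomp : ∀ x, Ψ (Φ x) = algebraMap (DD g u m i₀ f) L x :=
    ringHom_ext_DD (φ := Ψ.comp (Φ : DD g u m i₀ f →+* K)) (ψ := algebraMap (DD g u m i₀ f) L)
      (fun b => by
        rw [RingHom.comp_apply, RingHom.coe_coe, Φ.commutes, hΨB,
          ← IsScalarTower.algebraMap_apply B (DD g u m i₀ f) L])
      (((congrArg Ψ hΦw).trans (congrArg Units.val hΨw)).trans hw')
      (((congrArg Ψ hΦs).trans (congrArg Units.val hΨs)).trans hs')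
  have hΦinj : Function.Injective Φ := fun a b h => hLinj (by rw [← hcomp, ← hcomp, h])
  let e : DD g u m i₀ f ≃ₐ[B] A := (AlgEquiv.ofInjective Φ hΦinj).trans (Subalgebra.equivOfEq _ _ hrange)
  haveI : Module.Finite B (CC g u) := (monic_CC hg).finite_adjoinRoot
  haveI : Module.Finite (CC g u) (DD g u m i₀ f) := (monic_X_pow_sub_C _ hm.ne').finite_adjoinRoot
  haveI : Module.Finite B (DD g u m i₀ f) := Module.Finite.trans (CC g u) _
  haveI hfin : Module.Finite B A := Module.Finite.equiv e.toLinearEquiv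
  haveI := isRegularRing_DD (u := u) (i := i₀) hg hgB hm hmB hf
  refine ⟨hfin, fun x => ⟨fun hx => ?_, fun hx => ?_⟩, IsRegularRing.of_ringEquiv e.toRingEquiv, g, m, i₀, rfl, hmN, ⟨e⟩⟩
  · haveI : Module.Finite B (AdjoinRoot (X ^ N - C ((u : B) * f ^ α) : B[X])) := (monic_X_pow_sub_C _ hN.ne').finite_adjoinRoot
    have hxB : IsIntegral B x := isIntegral_trans x hx
    letI : Algebra (DD g u m i₀ f) K := Φ.toRingHom.toAlgebra
    haveI : IsScalarTower B (DD g u m i₀ f) K :=
      IsScalarTower.of_algebraMap_eq fun b => (Φ.commutes b).symm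
    obtain ⟨φ, hφ, hker⟩ := exists_quot_DD (u := u) (i := i₀) (f := f) hg hm
    haveI := isRegularRing_CC (u := u) hg hgB
    haveI := isRegularRing_CC_quot (u := u) (f := f) hg hgB
    haveI : IsReduced (DD g u m i₀ f ⧸ Ideal.span {(S g u m i₀ f)}) := by
      haveI := isReduced_of_isRegularRing (CC g u ⧸ Ideal.span {algebraMap B (CC g u) f})
      exact isReduced_of_injective
        ((RingHom.quotientKerEquivOfSurjective hφ).toRingHom.comp (Ideal.quotEquivOfEq hker.symm).toRingHom)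
        ((RingHom.quotientKerEquivOfSurjective hφ).injective.comp (Ideal.quotEquivOfEq hker.symm).injective)
    obtain ⟨⟨y, _, k, rfl⟩, hy⟩ := IsLocalization.surj
      (Submonoid.powers (algebraMap B (AdjoinRoot (X ^ N - C ((u : B) * f ^ α) : B[X])) f)) x
    have hy' : x * (algebraMap B K f) ^ k ∈ A := by
      simp only [map_pow, ← IsScalarTower.algebraMap_apply] at hy
      rw [hy]
      clear hy
      obtain ⟨Q, rfl⟩ := AdjoinRoot.mk_surjective y
      induction Q using Polynomial.induction_on' with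
      | add p q hp hq =>
        rw [map_add (AdjoinRoot.mk _), map_add (algebraMap _ K)]; exact add_mem hp hq
      | monomial n c =>
        rw [← C_mul_X_pow_eq_monomial, map_mul (AdjoinRoot.mk _), map_pow, AdjoinRoot.mk_C,
          AdjoinRoot.mk_X, ← AdjoinRoot.algebraMap_eq, map_mul (algebraMap _ K),
          map_pow (algebraMap _ K), ← IsScalarTower.algebraMap_apply]
        refine mul_mem (A.algebraMap_mem c) (pow_mem ?_ n)
        have := hmem 1 0 (by simp)
        simpa [hT] using this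
    have hmemr : x ∈ Set.range (algebraMap (DD g u m i₀ f) K) := by
      refine mem_range_of_isIntegral (S g u m i₀ f) hΦinj ⟨s, hΦs.symm⟩ x hxB.tower_top (m * k) ?_
      have h1 : x * (s : K) ^ (m * k) ∈ A := by
        have := congrArg Units.val hsm
        simp only [zpow_natCast, Units.val_pow_eq_pow_val, Units.val_mul] at this
        rw [pow_mul, this, mul_pow, ← mul_assoc, mul_right_comm, hF]
        exact mul_mem hy' (pow_mem (pow_mem hwA _) _)
      rw [← hrange] at h1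
      obtain ⟨d, hd⟩ := h1
      exact ⟨d, by rw [show algebraMap (DD g u m i₀ f) K (S g u m i₀ f) = (s : K) from hΦs]; exact hd.symm⟩
    rw [← hrange]
    exact hmemr
  · exact ((Algebra.IsIntegral.isIntegral (R := B) (⟨x, hx⟩ : A)).map A.val).tower_top

set_option maxHeartbeats 1000000 in
theorem main [IsDomain B] [IsRegularRing B] [IsRegularRing (B ⧸ Ideal.span {f})]
    (N α : ℕ) (hN : 0 < N) (hNB : IsUnit (N : B)) (hf : f ≠ 0)
    [Algebra (AdjoinRoot (X ^ N - C ((u : B) * f ^ α) : B[X])) K]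
    [IsScalarTower B (AdjoinRoot (X ^ N - C ((u : B) * f ^ α) : B[X])) K]
    [IsLocalization.Away (algebraMap B (AdjoinRoot (X ^ N - C ((u : B) * f ^ α) : B[X])) f) K]
    (A : Subalgebra B K)
    (hA : A = Algebra.adjoin B (Set.range fun j : Fin N =>
      algebraMap (AdjoinRoot (X ^ N - C ((u : B) * f ^ α) : B[X])) K
          (AdjoinRoot.root (X ^ N - C ((u : B) * f ^ α) : B[X]) ^ (j : ℕ)) *
        IsLocalization.Away.invSelf (S := K)
          (algebraMap B (AdjoinRoot (X ^ N - C ((u : B) * f ^ α) : B[X])) f) ^ ((j : ℕ) * α / N))) :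
    Module.Finite B A ∧
      (∀ x : K, IsIntegral (AdjoinRoot (X ^ N - C ((u : B) * f ^ α) : B[X])) x ↔ x ∈ A) ∧
      IsRegularRing A := by
  obtain ⟨h1, h2, h3, -⟩ := main_equiv N α hN hNB hf A hA
  exact ⟨h1, h2, h3⟩

end Structure

end Groth.Agent.CycCovLib
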